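import Mathlib
import Cfsg.Agent.Lib.Helper67.LSF.Defs

/-!
# LSF (S5286), package [FIXLET]: a basis permutation fixing a reduced word fixes its letters
-/

set_option autoImplicit false

namespace Cfsg.Agent.Lib.Helper84.LSF

open Cfsg Cfsg.Agent.Lib.Helper67.LSF

universe u

theorem map_eq_self_mem {α : Type u} (f : α → α) :
    ∀ L : List α, L.map f = L → ∀ a ∈ L, f a = a
  | [], _, a, ha => by simp at ha
  | b :: L, h, a, ha => by
    rw [List.map_cons, List.cons.injEq] at h
    rcases List.mem_cons.mp ha with rfl | ha'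
    · exact h.1
    · exact map_eq_self_mem f L h.2 a ha'

/-- Two reduced words representing the same element are equal. -/
theorem reduced_unique {X : Type u} {L₁ L₂ : List (X × Bool)} (h₁ : FreeGroup.IsReduced L₁)
    (h₂ : FreeGroup.IsReduced L₂) (h : FreeGroup.mk L₁ = FreeGroup.mk L₂) : L₁ = L₂ := by
  obtain ⟨c, hc₁, hc₂⟩ := FreeGroup.Red.exact.mp h
  rw [h₁.red_iff_eq] at hc₁
  rw [h₂.red_iff_eq] at hc₂
  rw [← hc₁, hc₂]

theorem congr_mk {X : Type u} (π : Equiv.Perm X) (L : List (X × Bool)) :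
    FreeGroup.freeGroupCongr π (FreeGroup.mk L)
      = FreeGroup.mk (L.map fun ℓ => (π ℓ.1, ℓ.2)) := by
  simp [FreeGroup.freeGroupCongr]

theorem reduced_map {X : Type u} (π : Equiv.Perm X) (L : List (X × Bool))
    (h : FreeGroup.IsReduced L) :
    FreeGroup.IsReduced (L.map fun ℓ => (π ℓ.1, ℓ.2)) := by
  unfold FreeGroup.IsReduced at h ⊢
  rw [List.isChain_map]
  exact h.imp (fun a b hab e => hab (π.injective e))

/-- [FIXLET] -/
theorem pkgFixLet : PkgFixLet.{u} := by
  intro X π L hL h ℓ hℓ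
  rw [congr_mk] at h
  have e := reduced_unique (reduced_map π L hL) hL h
  have := map_eq_self_mem (fun ℓ : X × Bool => (π ℓ.1, ℓ.2)) L e ℓ hℓ
  exact congrArg Prod.fst this

end Cfsg.Agent.Lib.Helper84.LSF
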